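import Groth.Agent.ArtFun.K725.EmbHilb
import Groth.Agent.LefPen.K568.TanExt

/-!
# Deformations of smooth hypersurfaces are embedded outside the exceptional cases
-/

set_option autoImplicit false
universe u

open CategoryTheory CategoryTheory.Limits AlgebraicGeometry ArtFun

namespace K725.HypEmb

variable (k : Type u) [Field k] (n : ℕ) {d : ℕ} (F : LefPen.Form n k d)

theorem exists_localHilb (hn : 2 ≤ n) (hd : 1 ≤ d) (hF : F ≠ 0) (hnd : ¬ ((n = 2 ∧ 5 ≤ d) ∨ (n = 3 ∧ d = 4)))
    {A : Art k k} (ξ : DefSch (LefPen.hypIdeal F).subscheme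
      (subOver (CohB1.ProjSpace.toSpec n k) (LefPen.hypIdeal F)) A) :
    ∃ I : (localHilb (CohB1.ProjSpace n k) (CohB1.ProjSpace.toSpec n k) (LefPen.hypIdeal F)).obj A,
      Nonempty (DefSch.Iso (objectOf I) ξ) := by
  have := Groth.Agent.PerfA.AffVan.enoughInjectives (LefPen.hypIdeal F).subscheme
  let _ : HasExt.{u} (LefPen.hypIdeal F).subscheme.Modules := hasExt_of_enoughInjectives _
  exact K725.EmbHilb.exists_localHilb_of_map ξ (K725.EmbDef.exists_map inferInstance inferInstance
    (K568.TanExt.subsingleton_ext k n F hn hd hF hnd) ξ)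

end K725.HypEmb
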