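import Groth.Agent.ArtFun.K723.AbSplit
import Groth.Agent.LefPen.K568.TanSurf
import Groth.Agent.Lift.K695.ExtSplit
import Groth.Agent.VBCurve.K705.ExtH1
import Groth.Agent.CohqA.H1Lift
import Groth.Agent.CohqB.ToSheafExact
import Groth.Agent.S0844

/-!
# Extensions of the ideal of a hypersurface by its structure sheaf split

* `subsingleton_ext`: `Ext¹(I, O / I) = 0` for the ideal `I` of a hypersurface of `P^n`, `n ≥ 1`;
* `splits`.
-/

set_option autoImplicit false
universe u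

open CategoryTheory CategoryTheory.Limits MonoidalCategory AlgebraicGeometry CategoryTheory.Abelian

namespace K725.HypExt

open scoped Groth.Agent.Dcoh.MonCat
open Groth.Agent Groth.Agent.Dcoh Groth.Agent.Dcoh.MonClosed Groth.Agent.CohqB.HomSheaf LefPen

theorem shortExact_idealMod {X : Scheme.{u}} (I : X.IdealSheafData) :
    (ShortComplex.mk (ClSub.idealModι I) (ClSub.toSubscheme I) (kernel.condition _)).ShortExact where
  exact := ShortComplex.exact_of_f_is_kernel _ (kernelIsKernel _)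
  mono_f := inferInstanceAs (Mono (kernel.ι (ClSub.toSubscheme I)))
  epi_g := (CohqB.ToSheafExact.toAbF X).epi_of_epi_map
    (CohqA.H1Lift.epi_toAb_of_locSurj _ (CohqA.IdealMod.toSubscheme_locSurj I))

/-- `Hom(L, G) = L⁻¹ ⊗ G`. -/
theorem nonempty_homSheaf_iso {X : Scheme.{u}} {L I : X.Modules}
    (e : CohB1.tensorMod L I ≅ Coh.structureModule X) (G : X.Modules) :
    Nonempty (homSheaf L G ≅ CohB1.tensorMod I G) := by
  let e1 : L ⊗ I ≅ 𝟙_ X.Modules := e
  let ε : tensorLeft I ⋙ tensorLeft L ≅ 𝟭 X.Modules :=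
    (tensorLeftTensor L I).symm ≪≫ (tensoringLeft X.Modules).mapIso e1 ≪≫ leftUnitorNatIso X.Modules
  let η : 𝟭 X.Modules ≅ tensorLeft L ⋙ tensorLeft I :=
    ((tensorLeftTensor I L).symm ≪≫ (tensoringLeft X.Modules).mapIso (β_ I L ≪≫ e1) ≪≫
      leftUnitorNatIso X.Modules).symm
  let adj : tensorLeft L ⊣ tensorLeft I := (CategoryTheory.Equivalence.mk _ _ η ε).toAdjunction
  let e' : homFunctor L ≅ tensorLeft I := Adjunction.rightAdjointUniq (tensorHomAdj L) adj
  exact ⟨e'.app G⟩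

variable (k : Type u) [Field k] (n : ℕ) {d : ℕ} (F : LefPen.Form n k d)

/-- `Ext^q(O(a), O(b)) = H^q(P^n, O(b - a))`. -/
theorem subsingleton_ext_twist [HasExt.{u} (CohB1.ProjSpace n k).Modules] (a b : ℤ) (q : ℕ)
    (h₀ : ¬ (q = 0 ∧ 0 ≤ b - a)) (hn : ¬ (q = n ∧ b - a ≤ -((n : ℤ) + 1))) :
    Subsingleton (Ext.{u} (Twist.twistProjSpace n k a) (Twist.twistProjSpace n k b) q) := by
  let _ : (CohB1.ProjSpace n k).Over (Spec (CommRingCat.of k)) := ⟨CohB1.ProjSpace.toSpec n k⟩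
  rw [K568.TanSurf.subsingleton_ext_iff k (K568.TanSurf.isFinLocFree_tw k n a)]
  obtain ⟨e⟩ := Sga67.TwistProj.nonempty_mul n k a (-a)
  obtain ⟨e0⟩ := Groth.Agent.ASBun.K791.Tens.twistProj_zero n k
  rw [add_neg_cancel] at e
  obtain ⟨t⟩ := nonempty_homSheaf_iso (e ≪≫ e0) (Twist.twistProjSpace n k b)
  obtain ⟨s⟩ := Sga67.TwistProj.nonempty_mul n k (-a) b
  refine Fga.HShift.subsingleton_of_iso (t ≪≫ s).symm q ?_
  rw [show -a + b = b - a by ring]
  exact S0844.result k n (b - a) q h₀ hn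

/-- `Ext¹(I, O / I) = 0`. -/
theorem subsingleton_ext [HasExt.{u} (CohB1.ProjSpace n k).Modules] (hF : F ≠ 0) :
    Subsingleton (Ext.{u} (ClSub.idealMod (hypIdeal F)) (ClSub.quotMod (hypIdeal F)) 1) := by
  obtain ⟨e⟩ := K568.HypIdMod.nonempty_iso F hF
  obtain ⟨e0⟩ := Groth.Agent.ASBun.K791.Tens.twistProj_zero n k
  have hS := shortExact_idealMod (hypIdeal F)
  have h1 : Subsingleton (Ext.{u} (ClSub.idealMod (hypIdeal F)) (Coh.structureModule (CohB1.ProjSpace n k)) 1) :=
    K695.ExtSplit.subsingleton_ext_of_iso_right e0 1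
      ((K705.ExtH1.extCongrLeft e _ 1).toEquiv.subsingleton_congr.2
        (subsingleton_ext_twist k n (-(d : ℤ)) 0 1 (by omega) (by omega)))
  have h2 : Subsingleton (Ext.{u} (ClSub.idealMod (hypIdeal F)) (ClSub.idealMod (hypIdeal F)) 2) :=
    K695.ExtSplit.subsingleton_ext_of_iso_right e.symm 2
      ((K705.ExtH1.extCongrLeft e _ 2).toEquiv.subsingleton_congr.2
        (subsingleton_ext_twist k n (-(d : ℤ)) (-(d : ℤ)) 2 (by omega) (by omega)))
  refine subsingleton_of_forall_eq 0 fun x => ?_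
  obtain ⟨y, hy⟩ := Ext.covariant_sequence_exact₃ (ClSub.idealMod (hypIdeal F)) hS x (n₁ := 2) (by norm_num)
    (h2.elim _ _)
  rw [← hy, h1.elim y 0, Ext.zero_comp]

/-- Extensions of the ideal by the structure sheaf split. -/
theorem splits (hF : F ≠ 0) : K723.AbSplit.Splits (ClSub.idealMod (hypIdeal F)) (ClSub.quotMod (hypIdeal F)) := by
  have := Groth.Agent.PerfA.AffVan.enoughInjectives (CohB1.ProjSpace n k)
  let _ : HasExt.{u} (CohB1.ProjSpace n k).Modules := hasExt_of_enoughInjectives _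
  exact K723.AbSplit.splits_of_ext (subsingleton_ext k n F hF)

end K725.HypExt
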